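import Mathlib

/-!
# Idempotents of `A[1/t]` for a Henselian pair `(A, tA)`
-/

open Polynomial

universe u

namespace HenIdemLib

variable {A : Type u} [CommRing A] (t : A)

/-- The ideal `tA`. -/
abbrev J : Ideal A := Ideal.span ({t} : Set A)

/-- The completion. -/
abbrev Ac : Type u := AdicCompletion (Ideal.span ({t} : Set A)) A

/-- The image of `t`. -/
noncomputable abbrev tau : Ac t := algebraMap A (AdicCompletion (Ideal.span ({t} : Set A)) A) t

theorem evalₐ_algebraMap (n : ℕ) (a : A) :
    AdicCompletion.evalₐ (J t) n (algebraMap A (Ac t) a) = Ideal.Quotient.mk ((J t) ^ n) a := by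
  rw [AlgHom.commutes]; rfl

theorem eq_zero_of_forall_dvd (x : (Ac t)) (h : ∀ m : ℕ, (tau t) ^ m ∣ x) : x = 0 :=
  AdicCompletion.ext_evalₐ (I := J t) fun m => by
    obtain ⟨y, rfl⟩ := h m
    rw [map_zero, map_mul, map_pow, evalₐ_algebraMap, ← map_pow,
      Ideal.Quotient.eq_zero_iff_mem.2 (Ideal.pow_mem_pow (Ideal.mem_span_singleton_self t) m),
      zero_mul]

theorem dvd_of_algebraMap_dvd (M : ℕ) (c : A) (h : (tau t) ^ M ∣ algebraMap A (Ac t) c) : t ^ M ∣ c := by
  obtain ⟨y, hy⟩ := h
  have h1 := congrArg (AdicCompletion.evalₐ (J t) M) hy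
  rw [map_mul, map_pow, evalₐ_algebraMap, evalₐ_algebraMap, ← map_pow,
    Ideal.Quotient.eq_zero_iff_mem.2 (Ideal.pow_mem_pow (Ideal.mem_span_singleton_self t) M),
    zero_mul, Ideal.Quotient.eq_zero_iff_mem, Ideal.span_singleton_pow, Ideal.mem_span_singleton] at h1
  exact h1

theorem exists_approx (M : ℕ) (x : (Ac t)) : ∃ a : A, (tau t) ^ M ∣ x - algebraMap A (Ac t) a := by
  obtain ⟨a, ha⟩ := Ideal.Quotient.mk_surjective (AdicCompletion.evalₐ (J t) M x)
  refine ⟨a, ?_⟩
  set y := x - algebraMap A (Ac t) a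
  have h0 : AdicCompletion.evalₐ (J t) M y = 0 := by rw [map_sub, evalₐ_algebraMap, ha, sub_self]
  have h1 : AdicCompletion.eval (J t) A M y = 0 := by
    rw [← AdicCompletion.factor_evalₐ_eq_eval (J t) y (by simp), h0, map_zero]
  have h2 : y ∈ ((J t) ^ M • ⊤ : Submodule A (Ac t)) := by
    rw [AdicCompletion.pow_smul_top_eq_ker_eval (Submodule.fg_span_singleton t)]
    exact h1
  rw [Ideal.span_singleton_pow, Submodule.ideal_span_singleton_smul] at h2
  obtain ⟨z, -, hz⟩ := (Submodule.mem_smul_pointwise_iff_exists _ _ _).1 h2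
  exact ⟨z, by rw [← hz, Algebra.smul_def, map_pow]⟩

/-- An integral multiple of `t` in `Âc[1/t]` with `δ³ = δ` is zero. -/
theorem eq_zero_of_cube (δ : Localization.Away (tau t)) (h3 : δ ^ 3 = δ) (w : (Ac t))
    (hw : δ = algebraMap (Ac t) (Localization.Away (tau t)) ((tau t) * w)) : δ = 0 := by
  have h : algebraMap (Ac t) (Localization.Away (tau t)) (((tau t) * w) ^ 3) = algebraMap (Ac t) (Localization.Away (tau t)) ((tau t) * w) := by rw [map_pow, ← hw, h3]
  obtain ⟨⟨_, K, rfl⟩, hK⟩ := (IsLocalization.eq_iff_exists (Submonoid.powers (tau t)) (Localization.Away (tau t))).1 h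
  simp only at hK
  have hpow : ∀ m : ℕ, (tau t) ^ m ∣ (tau t) ^ K * ((tau t) * w) := by
    intro m
    induction m with
    | zero => simp
    | succ m ih =>
      obtain ⟨z, hz⟩ := ih
      refine ⟨(tau t) * w ^ 2 * z, ?_⟩
      have e : (tau t) ^ K * ((tau t) * w) = (tau t) ^ K * ((tau t) * w) * ((tau t) * w) ^ 2 := by
        linear_combination -hK
      rw [e, hz]; ring
  have h0 := eq_zero_of_forall_dvd t _ hpow
  rw [hw]
  exact (IsLocalization.map_eq_zero_iff (Submonoid.powers (tau t)) (Localization.Away (tau t)) _).2 ⟨⟨_, K, rfl⟩, h0⟩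

theorem sub_cube {R : Type*} [CommRing R] {e f : R} (he : IsIdempotentElem e) (hf : IsIdempotentElem f) :
    (e - f) ^ 3 = e - f := by
  have he' : e * e = e := he
  have hf' : f * f = f := hf
  linear_combination (e + 1 - 3 * f) * he' + (3 * e - f - 1) * hf'

theorem map_algebraMap_sub (x : A) :
    Localization.awayMap (algebraMap A (Ac t)) t (algebraMap A (Localization.Away t) x) =
      algebraMap (Ac t) (Localization.Away (tau t)) (algebraMap A (Ac t) x) :=
  IsLocalization.map_eq _ x

theorem isUnit_tau : IsUnit (algebraMap (Ac t) (Localization.Away (tau t)) (tau t)) :=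
  IsLocalization.Away.algebraMap_isUnit (tau t)

theorem existsUnique [HenselianRing A (J t)] (e : Localization.Away (tau t)) (he : IsIdempotentElem e) :
    ∃! e₀ : Localization.Away t, IsIdempotentElem e₀ ∧
      Localization.awayMap (algebraMap A (Ac t)) t e₀ = e := by
  set π := Localization.awayMap (algebraMap A (Ac t)) t
  have hjac : ∀ x : A, IsUnit (1 + t * x) := fun x => by
    have h := Ideal.mem_jacobson_bot.1
      (HenselianRing.jac (R := A) (I := (J t)) (Ideal.mem_span_singleton_self t)) x
    rwa [add_comm] at h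
  refine existsUnique_of_exists_of_unique ?_ fun e₀ e₁ ⟨h₀, g₀⟩ ⟨h₁, g₁⟩ => ?_
  · -- existence
    obtain ⟨⟨a, _, n, rfl⟩, ha⟩ := IsLocalization.surj (Submonoid.powers (tau t)) e
    have ha' : e * algebraMap (Ac t) (Localization.Away (tau t)) (tau t) ^ n = algebraMap (Ac t) (Localization.Away (tau t)) a := by rw [← map_pow]; exact ha
    have hrel : algebraMap (Ac t) (Localization.Away (tau t)) (a * a - (tau t) ^ n * a) = 0 := by
      rw [map_sub, map_mul, map_mul, map_pow, ← ha']
      have he' : e * e = e := he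
      linear_combination (algebraMap (Ac t) (Localization.Away (tau t)) (tau t) ^ n) ^ 2 * he'
    obtain ⟨⟨_, K, rfl⟩, hK⟩ := (IsLocalization.map_eq_zero_iff (Submonoid.powers (tau t)) (Localization.Away (tau t)) _).1 hrel
    simp only at hK
    -- `a₁ / t^N` represents `e` and is an exact root
    set N := n + K
    set a₁ := (tau t) ^ K * a
    have ha₁ : e * algebraMap (Ac t) (Localization.Away (tau t)) (tau t) ^ N = algebraMap (Ac t) (Localization.Away (tau t)) a₁ := by
      rw [map_mul, map_pow, ← ha']; ring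
    have hroot : a₁ * a₁ - (tau t) ^ N * a₁ = 0 := by
      simp only [a₁, N]
      linear_combination (tau t) ^ K * hK
    obtain ⟨a₀, ⟨v, hv⟩⟩ := exists_approx t (2 * N + N + 2) a₁
    set M := 2 * N + N + 2
    obtain ⟨b, hb⟩ : t ^ M ∣ a₀ * a₀ - t ^ N * a₀ := by
      refine dvd_of_algebraMap_dvd t M _ ⟨-(v * (a₁ + algebraMap A (Ac t) a₀ - (tau t) ^ N)), ?_⟩
      rw [map_sub, map_mul, map_mul, map_pow]
      linear_combination -(a₁ + algebraMap A (Ac t) a₀ - (tau t) ^ N) * hv + hroot
    -- `b' := c / t ^ (2N+1)`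
    set b' := t ^ (N + 1) * b
    have hc : a₀ * a₀ - t ^ N * a₀ = t ^ (2 * N + 1) * b' := by
      rw [hb]; simp only [b', M]; ring
    set d := 2 * a₀ - t ^ N
    have hd : d ^ 2 = t ^ (2 * N) * (1 + 4 * (t * b')) := by
      simp only [d]
      linear_combination 4 * hc
    obtain ⟨u, hu⟩ := (show IsUnit (1 + 4 * (t * b')) by
      rw [show 1 + 4 * (t * b') = 1 + t * (4 * b') by ring]; exact hjac _).exists_left_inv
    let f : A[X] := X ^ 2 + (X + C (t * b' * u))
    have hmon : f.Monic := by simp only [f]; monicity!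
    obtain ⟨z, hz, hz0⟩ := HenselianRing.is_henselian (R := A) (I := (J t)) f hmon 0
      (by simp only [f, eval_add, eval_pow, eval_X, eval_C]
          simpa using Ideal.mul_mem_right _ _ (Ideal.mul_mem_right _ _ (Ideal.mem_span_singleton_self t)))
      (by simp [f])
    rw [sub_zero, Ideal.mem_span_singleton] at hz0
    have hz' : z ^ 2 + z + t * b' * u = 0 := by
      simpa [f, IsRoot, add_assoc] using hz
    have h1z : IsUnit (1 + z) := by
      obtain ⟨z', rfl⟩ := hz0; exact hjac z'
    obtain ⟨u', hu'⟩ := h1z.exists_left_inv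
    have hzdvd : z = t ^ (N + 2) * (-(b * u * u')) := by
      have : z * (1 + z) = -(t * b' * u) := by linear_combination hz'
      have := congrArg (u' * ·) this
      linear_combination this - z * hu'
    set x := a₀ + d * z
    have hx : x * x - t ^ N * x = 0 := by
      have key : x * x - t ^ N * x = (a₀ * a₀ - t ^ N * a₀) + d * d * z + d * d * z ^ 2 := by
        simp only [x, d]; ring
      rw [key, hc, show d * d = d ^ 2 by ring, hd]
      linear_combination t ^ (2 * N) * (1 + 4 * (t * b')) * hz' - t ^ (2 * N) * t * b' * hu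
    let e₀ : (Localization.Away t) := IsLocalization.mk' (Localization.Away t) x (⟨t ^ N, N, rfl⟩ : Submonoid.powers t)
    have he₀ : IsIdempotentElem e₀ := by
      show e₀ * e₀ = e₀
      rw [← IsLocalization.mk'_mul, IsLocalization.mk'_eq_iff_eq]
      exact congrArg (algebraMap A (Localization.Away t)) (by
        simp only [Submonoid.coe_mul]
        linear_combination t ^ N * hx)
    refine ⟨e₀, he₀, ?_⟩
    rw [← sub_eq_zero]
    have hπ : π e₀ * algebraMap (Ac t) (Localization.Away (tau t)) (tau t) ^ N = algebraMap (Ac t) (Localization.Away (tau t)) (algebraMap A (Ac t) x) := by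
      rw [← map_algebraMap_sub t x, ← IsLocalization.mk'_spec (Localization.Away t) x (⟨t ^ N, N, rfl⟩ : Submonoid.powers t), map_mul]
      congr 1
      rw [map_algebraMap_sub, map_pow, map_pow]
    -- the difference is an integral multiple of `(tau t)`
    refine eq_zero_of_cube t _ (sub_cube (he₀.map π) he)
      ((tau t) * (algebraMap A (Ac t) d * algebraMap A (Ac t) (-(b * u * u')) - (tau t) ^ (2 * N) * v)) ?_
    apply ((isUnit_tau t).pow N).mul_left_injective
    show (π e₀ - e) * _ = _ * _
    rw [sub_mul, hπ, ha₁]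
    simp only [← map_mul, ← map_pow, ← map_sub]
    congr 1
    simp only [x, map_add, map_mul, hzdvd, map_pow, map_neg]
    linear_combination -hv
  · -- uniqueness
    obtain ⟨⟨x, _, n, rfl⟩, hx⟩ := IsLocalization.surj (Submonoid.powers t) (e₀ - e₁)
    have hx' : (e₀ - e₁) * algebraMap A (Localization.Away t) t ^ n = algebraMap A (Localization.Away t) x := by rw [← map_pow]; exact hx
    have h0 : algebraMap (Ac t) (Localization.Away (tau t)) (algebraMap A (Ac t) x) = 0 := by
      rw [← map_algebraMap_sub t x, ← hx', map_mul, map_sub, g₀, g₁, sub_self, zero_mul]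
    obtain ⟨⟨_, K, rfl⟩, hK⟩ := (IsLocalization.map_eq_zero_iff (Submonoid.powers (tau t)) (Localization.Away (tau t)) _).1 h0
    simp only at hK
    obtain ⟨y, hy⟩ := dvd_of_algebraMap_dvd t (n + K + 1) (t ^ K * x) (by
      rw [map_mul, map_pow, hK]; exact dvd_zero _)
    have hδ : e₀ - e₁ = algebraMap A (Localization.Away t) (t * y) := by
      apply ((IsLocalization.Away.algebraMap_isUnit t).pow (n + K)).mul_left_injective
      show (e₀ - e₁) * _ = _
      show (e₀ - e₁) * _ = algebraMap A (Localization.Away t) (t * y) * _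
      rw [pow_add, ← mul_assoc, hx', ← map_pow, ← map_pow, ← map_mul, ← map_mul, ← map_mul]
      congr 1
      linear_combination hy
    have h3 := sub_cube h₀ h₁
    have h2 : IsUnit (1 - (e₀ - e₁) ^ 2) := by
      rw [hδ, ← map_pow, ← map_one (algebraMap A (Localization.Away t)), ← map_sub]
      refine IsUnit.map _ ?_
      rw [show 1 - (t * y) ^ 2 = 1 + t * (-(t * y ^ 2)) by ring]
      exact hjac _
    exact sub_eq_zero.1 (h2.mul_left_eq_zero.1 (by linear_combination -h3))

end HenIdemLib
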